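import Groth.Agent.ProdTriv.Eps
import Groth.Agent.SeesawGen.CubeBase
import Groth.Agent.DescLocus.Main

/-!
# An invertible module on a product, trivial on both slices and on one fibre, is trivial near that fibre
-/

set_option autoImplicit false
attribute [-instance] CategoryTheory.catToReflQuiver
set_option linter.style.haveILetI false
set_option linter.unusedSectionVars false
set_option backward.isDefEq.respectTransparency false
set_option backward.isDefEq.respectTransparency.types false
set_option maxHeartbeats 2000000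

universe u

open CategoryTheory CategoryTheory.Limits AlgebraicGeometry TopologicalSpace Opposite

noncomputable section

namespace Groth.Agent.ProdTriv

open Groth.Agent Groth.Agent.H23.Frame Groth.Agent.H23.TrivBasic
open Groth.Agent.SeesawGen (prodMap isPullback_prodMap)

variable {X Y S : Scheme.{u}}

/-- Functions constant on the fibres of the factors give the same for the product. -/
theorem bijective_app_prod (f : X ⟶ S) (g : Y ⟶ S)
    (hOf : ∀ (T : Scheme.{u}) (t : T ⟶ S) (U : T.Opens), IsIso ((pullback.snd f t).app U))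
    (hOg : ∀ (T : Scheme.{u}) (t : T ⟶ S) (U : T.Opens), IsIso ((pullback.snd g t).app U))
    (T : Scheme.{u}) (t : T ⟶ S) (U : T.Opens) : IsIso ((pullback.snd (pullback.fst f g ≫ f) t).app U) := by
  let qX := pullback.snd f t
  let qY := pullback.snd g t
  have hpb := isPullback_prodMap f g t
  have big : IsPullback (pullback.snd qX qY ≫ pullback.fst g t) (pullback.fst qX qY) g (pullback.fst f t ≫ f) := by
    rw [pullback.condition (f := f) (g := t)]
    exact (IsPullback.of_hasPullback qX qY).flip.paste_horiz (IsPullback.of_hasPullback g t)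
  have h1 : ∀ W : (pullback f t).Opens, IsIso ((pullback.fst qX qY).app W) := fun W => by
    rw [← big.isoPullback_hom_snd, Scheme.Hom.comp_app]
    haveI := hOg _ (pullback.fst f t ≫ f) W
    infer_instance
  rw [← hpb.isoPullback_inv_snd, Scheme.Hom.comp_app, Scheme.Hom.comp_app]
  haveI := hOf T t U
  haveI := h1 (qX ⁻¹ᵁ U)
  infer_instance

theorem frame_one {Z : Scheme.{u}} {L : Z.Modules} (hL : PicF.IsInvertible L) (z : Z) :
    ∃ (U : Z.Opens) (e : Fin 1 → Γ(L, U)), z ∈ U ∧ IsFrame L e := by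
  obtain ⟨U, hz, ⟨φ⟩⟩ := hL z
  obtain ⟨e, he⟩ := exists_frame (φ ≪≫ (coproductUniqueIso fun _ : Fin 1 => Coh.structureModule (U : Scheme.{u})).symm)
  exact ⟨U, e, hz, he⟩

theorem triv_of_freeP {Z W : Scheme.{u}} {L : Z.Modules} (hL : PicF.IsInvertible L) {φ : W ⟶ Z}
    (h : DescLocus.FreeP L φ) (hne : Nonempty W) : Triv ((Scheme.Modules.pullback φ).obj L) := by
  obtain ⟨m, ⟨i⟩⟩ := h
  obtain ⟨e, he⟩ := DescLocus.exists_globalFrame i
  obtain ⟨w⟩ := hne
  obtain ⟨U, e', hU, he'⟩ := frame_one hL (φ w)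
  obtain rfl : m = 1 := DescLocus.eq_of_frames he
    (DescLocus.isFrame_pullElt φ (QCoh.isQCoh_of_isFinLocFree (H23.PullPush.isFinLocFree_of_isInvertible hL)) he') w trivial hU
  exact ⟨i ≪≫ coproductUniqueIso _⟩

theorem freeP_of_triv {Z W : Scheme.{u}} {L : Z.Modules} {φ : W ⟶ Z}
    (h : Triv ((Scheme.Modules.pullback φ).obj L)) : DescLocus.FreeP L φ :=
  let ⟨i⟩ := h
  ⟨1, ⟨i ≪≫ (coproductUniqueIso fun _ : Fin 1 => Coh.structureModule W).symm⟩⟩

variable (f : X ⟶ S) (g : Y ⟶ S) [Flat f] [IsProper f] [LocallyOfFinitePresentation f] [Flat g] [IsProper g]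
  [LocallyOfFinitePresentation g]
  (hOf : ∀ (T : Scheme.{u}) (t : T ⟶ S) (U : T.Opens), IsIso ((pullback.snd f t).app U))
  (hOg : ∀ (T : Scheme.{u}) (t : T ⟶ S) (U : T.Opens), IsIso ((pullback.snd g t).app U))
  (σ : S ⟶ X) (hσ : σ ≫ f = 𝟙 S) (τ : S ⟶ Y) (hτ : τ ≫ g = 𝟙 S)
  {L : (pullback f g).Modules} (hL : PicF.IsInvertible L)
  {u : X ⟶ pullback f g} (hu1 : u ≫ pullback.fst f g = 𝟙 X) (hu2 : u ≫ pullback.snd f g = f ≫ τ)
  {v : Y ⟶ pullback f g} (hv1 : v ≫ pullback.fst f g = g ≫ σ) (hv2 : v ≫ pullback.snd f g = 𝟙 Y)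
  (h1 : Triv ((Scheme.Modules.pullback u).obj L)) (h2 : Triv ((Scheme.Modules.pullback v).obj L))

include hOf hOg hσ hτ hL hu1 hu2 hv1 hv2 h1 h2 in
/-- Triviality lifts along small extensions. -/
theorem triv_step (B : Type u) [CommRing B] [IsLocalRing B] (w : Spec (CommRingCat.of B) ⟶ S) {ε : B}
    (hm : ∀ a ∈ IsLocalRing.maximalIdeal B, a * ε = 0) (hε : ε ≠ 0) (hεm : ε ∈ IsLocalRing.maximalIdeal B)
    (h : Triv ((Scheme.Modules.pullback (pullback.fst (pullback.fst f g ≫ f)
      (Spec.map (CommRingCat.ofHom (Ideal.Quotient.mk (Ideal.span {ε}))) ≫ w))).obj L)) :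
    Triv ((Scheme.Modules.pullback (pullback.fst (pullback.fst f g ≫ f) w)).obj L) := by
  let π := pullback.fst f g ≫ f
  let qX := pullback.snd f w
  let qY := pullback.snd g w
  let xB : Spec (CommRingCat.of B) ⟶ pullback f w :=
    pullback.lift (w ≫ σ) (𝟙 _) (by rw [Category.assoc, hσ, Category.comp_id, Category.id_comp])
  let yB : Spec (CommRingCat.of B) ⟶ pullback g w :=
    pullback.lift (w ≫ τ) (𝟙 _) (by rw [Category.assoc, hτ, Category.comp_id, Category.id_comp])
  have hxB : xB ≫ qX = 𝟙 _ := pullback.lift_snd _ _ _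
  have hyB : yB ≫ qY = 𝟙 _ := pullback.lift_snd _ _ _
  let j := prodMap f g w
  let πB := pullback.fst qX qY ≫ qX
  have hpb : IsPullback j πB π w := isPullback_prodMap f g w
  let qe : Spec (CommRingCat.of (B ⧸ Ideal.span {ε})) ⟶ Spec (CommRingCat.of B) :=
    Spec.map (CommRingCat.ofHom (Ideal.Quotient.mk (Ideal.span {ε})))
  have hbX : ∀ (T : Scheme.{u}) (t : T ⟶ Spec (CommRingCat.of B)), Function.Bijective (pullback.snd qX t).appTop := by
    intro T t
    rw [← pullbackLeftPullbackSndIso_hom_snd f w t, Scheme.Hom.comp_appTop]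
    haveI := hOf T (t ≫ w) ⊤
    haveI : IsIso ((pullbackLeftPullbackSndIso f w t).hom.app ⊤) := inferInstance
    exact (@ConcreteCategory.bijective_of_isIso _ _ _ _ _ _ _ _ (pullbackLeftPullbackSndIso f w t).hom.appTop this).comp
      (ConcreteCategory.bijective_of_isIso _)
  have hbY : ∀ (T : Scheme.{u}) (t : T ⟶ Spec (CommRingCat.of B)), Function.Bijective (pullback.snd qY t).appTop := by
    intro T t
    rw [← pullbackLeftPullbackSndIso_hom_snd g w t, Scheme.Hom.comp_appTop]
    haveI := hOg T (t ≫ w) ⊤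
    haveI : IsIso ((pullbackLeftPullbackSndIso g w t).hom.app ⊤) := inferInstance
    exact (@ConcreteCategory.bijective_of_isIso _ _ _ _ _ _ _ _ (pullbackLeftPullbackSndIso g w t).hom.appTop this).comp
      (ConcreteCategory.bijective_of_isIso _)
  have hP : Triv ((Scheme.Modules.pullback j).obj L) := by
    refine triv_cube_eps qX qY xB hxB yB hyB hbX hbY hm hε hεm (PicClLib.isInvertible_pullback _ hL) ?_ ?_ ?_
    · refine (triv_comp_iff _ _).2 ?_
      refine H23.SeesawGlobal.triv_of_factor (pullback.lift (pullback.fst πB qe ≫ j) (pullback.snd πB qe) (by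
        rw [Category.assoc, hpb.w, pullback.condition_assoc])) ?_ h
      exact pullback.lift_fst _ _ _
    · refine (triv_comp_iff _ _).2 ?_
      refine H23.SeesawGlobal.triv_of_factor (pullback.fst g w) ?_ h2
      refine pullback.hom_ext ?_ ?_
      · simp only [qX, qY, xB, yB, j, prodMap, Category.assoc, pullback.lift_fst, pullback.lift_fst_assoc, hv1]
        rw [pullback.condition_assoc]
      · simp only [qX, qY, xB, yB, j, prodMap, Category.assoc, pullback.lift_snd, pullback.lift_snd_assoc, hv2,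
          Category.comp_id, Category.id_comp]
    · refine (triv_comp_iff _ _).2 ?_
      refine H23.SeesawGlobal.triv_of_factor (pullback.fst f w) ?_ h1
      refine pullback.hom_ext ?_ ?_
      · simp only [qX, qY, xB, yB, j, prodMap, Category.assoc, pullback.lift_fst, pullback.lift_fst_assoc, hu1,
          Category.comp_id, Category.id_comp]
      · simp only [qX, qY, xB, yB, j, prodMap, Category.assoc, pullback.lift_fst, pullback.lift_snd, pullback.lift_snd_assoc,
          hu2]
        rw [pullback.condition_assoc]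
  exact H23.SeesawGlobal.triv_of_factor (hpb.lift (pullback.fst π w) (pullback.snd π w) pullback.condition)
    (hpb.lift_fst _ _ _) hP

theorem freeP_of_locFreeP {Z T : Scheme.{u}} (π : Z ⟶ S) {E : Z.Modules} {w : T ⟶ S} (t : T)
    (ht : ∀ U : T.Opens, t ∈ U → U = ⊤) (h : DescLocus.LocFreeP π E w) :
    DescLocus.FreeP E (pullback.fst π w) := by
  obtain ⟨V, hV, hF⟩ := h t
  obtain rfl := ht V hV
  exact hF.base (Scheme.topIso T).inv (by simp)

include hOf hOg hσ hτ hL hu1 hu2 hv1 hv2 h1 h2 in
/-- The product theorem near a point. -/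
theorem exists_nhd (s : S) (h3 : Triv ((Scheme.Modules.pullback
      (pullback.fst (pullback.fst f g ≫ f) (S.fromSpecResidueField s))).obj L)) :
    ∃ U : S.Opens, s ∈ U ∧ DescLocus.FreeP L (pullback.fst (pullback.fst f g ≫ f) U.ι) := by
  classical
  let π := pullback.fst f g ≫ f
  haveI : Flat π := inferInstanceAs (Flat (pullback.fst f g ≫ f))
  haveI : IsProper π := inferInstanceAs (IsProper (pullback.fst f g ≫ f))
  haveI : LocallyOfFinitePresentation π := inferInstanceAs (LocallyOfFinitePresentation (pullback.fst f g ≫ f))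
  have hO := bijective_app_prod f g hOf hOg
  obtain ⟨A, _, gA, _, J, hJ, ⟨z, rfl⟩, hfree, hkill⟩ := DescLocus.exists_chart π hO L
    (H23.PullPush.isFinLocFree_of_isInvertible hL) (s := s)
    ⟨S.residueField s, inferInstance, S.fromSpecResidueField s, S.fromSpecResidueField_apply s _, freeP_of_triv h3⟩
  let p : PrimeSpectrum A := z
  let O := Localization.AtPrime p.asIdeal
  have hJp : J ≤ p.asIdeal := by
    let K := p.asIdeal.ResidueField
    let r := Spec.map (CommRingCat.ofHom (algebraMap A K))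
    have hr : ∀ w, r w = z := fun w => PrimeSpectrum.ext (by
      show w.asIdeal.comap (algebraMap A K) = p.asIdeal
      rw [show w.asIdeal = ⊥ from (Ideal.eq_bot_or_top _).resolve_right w.isPrime.ne_top]
      exact Ideal.ker_algebraMap_residueField _)
    let r' : Spec (S.residueField (gA z)) ⟶ S := S.fromSpecResidueField (gA z)
    let a : CommRingCat.of A ⟶ S.residueField (gA z) := Spec.preimage (IsOpenImmersion.lift gA r' (by
      rintro _ ⟨w, rfl⟩
      exact ⟨z, (S.fromSpecResidueField_apply (gA z) w).symm⟩))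
    have ha : Spec.map a ≫ gA = r' := by rw [Spec.map_preimage, IsOpenImmersion.lift_fac]
    have hle := hkill _ a.hom (DescLocus.locFreeP_of_freeP (f := π) (E := L) (by
      rw [show CommRingCat.ofHom a.hom = a from rfl, ha]
      exact freeP_of_triv h3))
    have hz : (Spec.map a) (IsLocalRing.closedPoint (S.residueField (gA z))) = z :=
      gA.isOpenEmbedding.injective (by
        rw [← Scheme.Hom.comp_apply, ha]
        exact S.fromSpecResidueField_apply (gA z) _)
    intro x hx
    have hx' : a.hom x = 0 := RingHom.mem_ker.1 (hle hx)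
    rw [show p = (Spec.map a) (IsLocalRing.closedPoint (S.residueField (gA z))) from hz.symm]
    show a.hom x ∈ IsLocalRing.maximalIdeal (S.residueField (gA z))
    rw [hx']
    exact zero_mem _
  have hbot : J.map (algebraMap A O) = ⊥ := by
    by_contra h0
    obtain ⟨H, z₀, hmH, hzI, hzH, hgen⟩ := SeesawGen.exists_hyperplane (hJ.map (algebraMap A O)) h0
    have hI1 : J.map (algebraMap A O) ≤ IsLocalRing.maximalIdeal O := Ideal.map_le_iff_le_comap.2 fun x hx =>
      (IsLocalization.AtPrime.to_map_mem_maximal_iff O p.asIdeal x).2 (hJp hx)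
    haveI : Nontrivial (O ⧸ H) := Ideal.Quotient.nontrivial_iff.2 fun h => hzH (h ▸ Submodule.mem_top)
    haveI : IsLocalRing (O ⧸ H) := IsLocalRing.of_surjective' (Ideal.Quotient.mk H) Ideal.Quotient.mk_surjective
    haveI : IsLocalHom (Ideal.Quotient.mk H) := IsLocalHom.of_surjective _ Ideal.Quotient.mk_surjective
    let ε : O ⧸ H := Ideal.Quotient.mk H z₀
    let φ : A →+* O ⧸ H := (Ideal.Quotient.mk H).comp (algebraMap A O)
    let w := Spec.map (CommRingCat.ofHom φ) ≫ gA
    have hεm : ε ∈ IsLocalRing.maximalIdeal (O ⧸ H) := by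
      show z₀ ∈ (IsLocalRing.maximalIdeal (O ⧸ H)).comap (Ideal.Quotient.mk H)
      rw [IsLocalRing.maximalIdeal_comap]
      exact hI1 hzI
    have hm : ∀ a ∈ IsLocalRing.maximalIdeal (O ⧸ H), a * ε = 0 := by
      intro a ha
      obtain ⟨a', rfl⟩ := Ideal.Quotient.mk_surjective a
      have ha' : a' ∈ IsLocalRing.maximalIdeal O := by
        rw [← IsLocalRing.maximalIdeal_comap (Ideal.Quotient.mk H)]
        exact ha
      rw [← map_mul, Ideal.Quotient.eq_zero_iff_mem]
      exact hmH (Ideal.mul_mem_mul ha' hzI)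
    have hε : ε ≠ 0 := fun h => hzH (Ideal.Quotient.eq_zero_iff_mem.1 h)
    let B' := (O ⧸ H) ⧸ Ideal.span {ε}
    haveI : Nontrivial B' := Ideal.Quotient.nontrivial_iff.2 fun h =>
      (IsLocalRing.maximalIdeal.isMaximal (O ⧸ H)).ne_top
        (top_le_iff.1 (h.ge.trans (Ideal.span_le.2 (by simpa using hεm))))
    haveI : IsLocalRing B' := IsLocalRing.of_surjective' (Ideal.Quotient.mk _) Ideal.Quotient.mk_surjective
    let qe := Ideal.Quotient.mk (Ideal.span {ε})
    have hk : ∀ a ∈ J, (qe.comp φ) a = 0 := by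
      intro a ha
      obtain ⟨u', hu', v', hv', huv⟩ := Submodule.mem_sup.1 (hgen (Ideal.mem_map_of_mem (algebraMap A O) ha))
      obtain ⟨r, rfl⟩ := Ideal.mem_span_singleton'.1 hv'
      show qe (Ideal.Quotient.mk H (algebraMap A O a)) = 0
      rw [← huv, map_add, map_add, Ideal.Quotient.eq_zero_iff_mem.2 hu', map_zero, zero_add, map_mul, map_mul,
        show qe (Ideal.Quotient.mk H z₀) = 0 from Ideal.Quotient.eq_zero_iff_mem.2 (Ideal.mem_span_singleton_self ε),
        mul_zero]
    have hloc : DescLocus.LocFreeP π L (Spec.map (CommRingCat.ofHom qe) ≫ w) := by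
      have h := hfree.comp (Spec.map (CommRingCat.ofHom (Ideal.Quotient.lift J (qe.comp φ) hk)))
      rw [← Category.assoc, ← Spec.map_comp, ← CommRingCat.ofHom_comp, Ideal.Quotient.lift_comp_mk,
        CommRingCat.ofHom_comp, Spec.map_comp, Category.assoc] at h
      exact h
    have htriv := triv_of_freeP hL (freeP_of_locFreeP π (IsLocalRing.closedPoint B')
      (fun U hU => eq_top_iff.2 fun q _ => (IsLocalRing.closedPoint_mem_iff (R := B') U).1 hU ▸ trivial) hloc)
      (DescLocus.nonempty_of_nontrivial (pB := pullback.snd π (Spec.map (CommRingCat.ofHom qe) ≫ w))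
        (haveI := hO _ (Spec.map (CommRingCat.ofHom qe) ≫ w) ⊤; ConcreteCategory.bijective_of_isIso _))
    have hB := triv_step f g hOf hOg σ hσ τ hτ hL hu1 hu2 hv1 hv2 h1 h2 (O ⧸ H) w hm hε hεm htriv
    have hle := hkill _ φ (DescLocus.locFreeP_of_freeP (f := π) (E := L) (freeP_of_triv hB))
    refine hzH ?_
    have hIH : J.map (algebraMap A O) ≤ H := Ideal.map_le_iff_le_comap.2 fun a ha =>
      (Ideal.Quotient.eq_zero_iff_mem.1 (show Ideal.Quotient.mk H (algebraMap A O a) = 0 from RingHom.mem_ker.1 (hle ha)) : algebraMap A O a ∈ H)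
    exact hIH hzI
  have hc : ∀ a ∈ J, ∃ c : p.asIdeal.primeCompl, (c : A) * a = 0 := fun a ha => by
    have : algebraMap A O a = 0 := (Submodule.mem_bot O).1 (hbot ▸ Ideal.mem_map_of_mem _ ha)
    exact (IsLocalization.map_eq_zero_iff p.asIdeal.primeCompl O a).1 this
  obtain ⟨t, ht⟩ := hJ
  choose c hc using fun a : t => hc a.1 (ht ▸ Ideal.subset_span a.2)
  let d : p.asIdeal.primeCompl := ∏ a, c a
  let Ad := Localization.Away (d : A)
  let i := Spec.map (CommRingCat.ofHom (algebraMap A Ad))
  haveI : IsOpenImmersion i := IsOpenImmersion.of_isLocalization (d : A)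
  have hkd : J ≤ RingHom.ker (algebraMap A Ad) := by
    rw [← ht]
    refine Ideal.span_le.2 fun a ha => ?_
    obtain ⟨e, he⟩ := Finset.dvd_prod_of_mem c (Finset.mem_univ (⟨a, ha⟩ : t))
    refine RingHom.mem_ker.2 ((IsLocalization.map_eq_zero_iff (Submonoid.powers (d : A)) Ad a).2
      ⟨⟨(d : A), Submonoid.mem_powers _⟩, ?_⟩)
    show (d : A) * a = 0
    rw [show d = _ from he, Submonoid.coe_mul, mul_comm (c ⟨a, ha⟩ : A), mul_assoc, hc ⟨a, ha⟩, mul_zero]
  have hloc : DescLocus.LocFreeP π L (i ≫ gA) := by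
    have h := hfree.comp (Spec.map (CommRingCat.ofHom (Ideal.Quotient.lift J (algebraMap A Ad)
      fun a ha => RingHom.mem_ker.1 (hkd ha))))
    rw [← Category.assoc, ← Spec.map_comp, ← CommRingCat.ofHom_comp, Ideal.Quotient.lift_comp_mk] at h
    exact h
  obtain ⟨z', hz'⟩ : z ∈ Set.range i := (PrimeSpectrum.localization_away_comap_range Ad (d : A)).ge d.2
  obtain ⟨V, hV, hF⟩ := hloc z'
  let U : S.Opens := (i ≫ gA) ''ᵁ V
  refine ⟨U, ⟨z', hV, ?_⟩, ?_⟩
  · show gA (i z') = gA z
    rw [hz']
  haveI : IsOpenImmersion (V.ι ≫ i ≫ gA) := inferInstance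
  refine hF.base (IsOpenImmersion.lift (V.ι ≫ i ≫ gA) U.ι ?_) (IsOpenImmersion.lift_fac _ _ _)
  rw [Scheme.Opens.range_ι]
  rintro x ⟨y, hy, rfl⟩
  exact ⟨⟨y, hy⟩, rfl⟩

end Groth.Agent.ProdTriv
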